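import Mathlib.Algebra.MonoidAlgebra.Basic
import Mathlib.FieldTheory.IsAlgClosed.AlgebraicClosure
import Mathlib.FieldTheory.Normal.Basic
import Mathlib.RingTheory.TensorProduct.Maps
import Mathlib.RingTheory.Ideal.Maps

/-!
# Group-like elements of the algebra of Laurent polynomials
-/

set_option autoImplicit false

universe u v

open TensorProduct MonoidAlgebra

namespace Groth.Agent.DualGm79

/-- The infinite cyclic group, written multiplicatively. -/
abbrev Z : Type := Multiplicative ℤ

variable {C : Type u} [CommRing C] {D : Type v} [CommRing D]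

/-- An element with orthogonal idempotent coefficients of sum one. -/
structure IsGL (u : MonoidAlgebra C Z) : Prop where
  mul : ∀ a b : Z, u.coeff a * u.coeff b = if a = b then u.coeff a else 0
  sum : (u.coeff.sum fun _ c => c) = 1

theorem isGL_of (u : MonoidAlgebra C Z)
    (hΔ : mapDomainRingHom C (MonoidHom.prod (MonoidHom.id Z) (MonoidHom.id Z)) u =
      mapDomainRingHom C (MonoidHom.inl Z Z) u * mapDomainRingHom C (MonoidHom.inr Z Z) u)
    (h1 : (MonoidAlgebra.lift C C Z (1 : Z →* C)) u = 1) : IsGL u := by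
  classical
  refine ⟨fun a b => ?_, ?_⟩
  · have hl : (mapDomainRingHom C (MonoidHom.prod (MonoidHom.id Z) (MonoidHom.id Z)) u).coeff (a, b) =
        if a = b then u.coeff a else 0 := by
      rw [MonoidAlgebra.mapDomainRingHom_apply, MonoidAlgebra.coeff_mapDomain]
      split_ifs with h
      · subst h
        exact Finsupp.mapDomain_apply (fun x y hxy => congrArg Prod.fst hxy) u.coeff a
      · exact Finsupp.mapDomain_notin_range _ _ fun ⟨c, hc⟩ =>
          h ((congrArg Prod.fst hc).symm.trans (congrArg Prod.snd hc))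
    have hi : ∀ (x : MonoidAlgebra C Z) (g : Z →* Z × Z), mapDomainRingHom C g x =
        ∑ m ∈ x.coeff.support, MonoidAlgebra.single (g m) (x.coeff m) := fun x g => by
      conv_lhs => rw [← MonoidAlgebra.sum_coeff_single x]
      rw [Finsupp.sum, map_sum]
      exact Finset.sum_congr rfl fun m _ => by simp
    have hr : (mapDomainRingHom C (MonoidHom.inl Z Z) u * mapDomainRingHom C (MonoidHom.inr Z Z) u).coeff (a, b) =
        u.coeff a * u.coeff b := by
      rw [hi, hi, Finset.sum_mul_sum]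
      simp only [MonoidHom.inl_apply, MonoidHom.inr_apply, MonoidAlgebra.single_mul_single, Prod.mk_mul_mk,
        mul_one, one_mul, MonoidAlgebra.coeff_sum, MonoidAlgebra.coeff_single, Finsupp.finset_sum_apply,
        Finsupp.single_apply, Prod.mk.injEq, ite_and, Finset.sum_ite_irrel, Finset.sum_const_zero,
        Finset.sum_ite_eq', Finsupp.mem_support_iff]
      by_cases ha : u.coeff a = 0 <;> by_cases hb : u.coeff b = 0 <;> simp [ha, hb]
    rw [← hr, ← hΔ, hl]
  · rw [MonoidAlgebra.lift_apply] at h1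
    simpa using h1

namespace IsGL

variable {u : MonoidAlgebra C Z} (hu : IsGL u)
include hu

/-- At a point exactly one coefficient is one. -/
theorem exists_unique_deg {Ω : Type v} [Field Ω] (ψ : C →+* Ω) :
    ∃ n : Z, mapRingHom Z ψ u = MonoidAlgebra.single n 1 := by
  classical
  obtain ⟨n, hn⟩ : ∃ n, ψ (u.coeff n) ≠ 0 := by
    by_contra! h
    have h' := congrArg ψ hu.sum
    rw [Finsupp.sum, map_sum, map_one, Finset.sum_eq_zero fun i _ => h i] at h'
    exact zero_ne_one h'
  refine ⟨n, MonoidAlgebra.coeffEquiv.injective (Finsupp.ext fun m => ?_)⟩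
  show (mapRingHom Z ψ u).coeff m = (MonoidAlgebra.single n (1 : Ω)).coeff m
  rw [MonoidAlgebra.coeff_mapRingHom, MonoidAlgebra.coeff_single, Finsupp.single_apply]
  by_cases h : n = m
  · subst h
    rw [if_pos rfl]
    have h2 := congrArg ψ (hu.mul n n)
    rw [if_pos rfl, map_mul] at h2
    exact mul_right_cancel₀ hn (h2.trans (one_mul _).symm)
  · rw [if_neg h]
    have h2 := congrArg ψ (hu.mul m n)
    rw [if_neg (Ne.symm h), map_mul, map_zero, mul_eq_zero] at h2
    exact h2.resolve_right hn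

theorem eq_one (h : ∀ P : Ideal C, P.IsPrime → u.coeff 1 ∉ P) : u = 1 := by
  have hunit : IsUnit (u.coeff 1) := by
    by_contra hn
    obtain ⟨m, hm, hle⟩ := exists_max_ideal_of_mem_nonunits hn
    exact h m hm.isPrime hle
  have h1 : u.coeff 1 = 1 := by
    refine hunit.mul_left_cancel ?_
    rw [mul_one, hu.mul, if_pos rfl]
  refine MonoidAlgebra.coeffEquiv.injective (Finsupp.ext fun m => ?_)
  show u.coeff m = (1 : MonoidAlgebra C Z).coeff m
  rw [MonoidAlgebra.one_def, MonoidAlgebra.coeff_single]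
  by_cases hm : m = 1
  · subst hm; rw [Finsupp.single_eq_same, h1]
  · rw [Finsupp.single_eq_of_ne hm]
    have h2 := hu.mul m 1
    rwa [if_neg hm, h1, mul_one] at h2

end IsGL

/-- An additive cocycle with values in the integers on a finite field extension vanishes. -/
theorem eq_one_of_cocycle {k L : Type u} [Field k] [Field L] [Algebra k L] [Module.Finite k L]
    {u : MonoidAlgebra (L ⊗[k] L) Z} (hu : IsGL u)
    (h : mapRingHom Z (Algebra.TensorProduct.includeRight : L ⊗[k] L →ₐ[k] L ⊗[k] (L ⊗[k] L)).toRingHom u *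
        mapRingHom Z (Algebra.TensorProduct.map (AlgHom.id k L) Algebra.TensorProduct.includeLeft :
          L ⊗[k] L →ₐ[k] L ⊗[k] (L ⊗[k] L)).toRingHom u =
      mapRingHom Z (Algebra.TensorProduct.map (AlgHom.id k L) Algebra.TensorProduct.includeRight :
          L ⊗[k] L →ₐ[k] L ⊗[k] (L ⊗[k] L)).toRingHom u) : u = 1 := by
  classical
  let Ω := AlgebraicClosure k
  let d : (L ⊗[k] L →ₐ[k] Ω) → Z := fun ψ => (hu.exists_unique_deg ψ.toRingHom).choose
  have hd : ∀ ψ : L ⊗[k] L →ₐ[k] Ω, mapRingHom Z ψ.toRingHom u = MonoidAlgebra.single (d ψ) 1 :=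
    fun ψ => (hu.exists_unique_deg ψ.toRingHom).choose_spec
  have hdouble : ∀ ψ, ∃ ψ' : L ⊗[k] L →ₐ[k] Ω, d ψ' = d ψ * d ψ := by
    intro ψ
    let σ : L →ₐ[k] Ω := ψ.comp Algebra.TensorProduct.includeLeft
    let τ : L →ₐ[k] Ω := ψ.comp Algebra.TensorProduct.includeRight
    have hψ : ψ = Algebra.TensorProduct.productMap σ τ := Algebra.TensorProduct.ext' fun a b => by
      simp [σ, τ, ← map_mul]
    letI : Algebra L Ω := σ.toRingHom.toAlgebra
    haveI : IsScalarTower k L Ω := IsScalarTower.of_algebraMap_eq fun x => (σ.commutes x).symm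
    let γ : Ω →ₐ[k] Ω := AlgHom.liftNormal τ Ω
    have hγ : ∀ x, γ (σ x) = τ x := fun x => AlgHom.liftNormal_commutes τ Ω x
    let Ψ : L ⊗[k] (L ⊗[k] L) →ₐ[k] Ω :=
      Algebra.TensorProduct.productMap σ (Algebra.TensorProduct.productMap τ (γ.comp τ))
    refine ⟨Ψ.comp (Algebra.TensorProduct.map (AlgHom.id k L) Algebra.TensorProduct.includeRight), ?_⟩
    have h₀ : Ψ.comp (Algebra.TensorProduct.includeRight : L ⊗[k] L →ₐ[k] L ⊗[k] (L ⊗[k] L)) = γ.comp ψ := by
      rw [hψ]
      refine Algebra.TensorProduct.ext' fun a b => ?_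
      simp [Ψ, hγ]
    have h₂ : Ψ.comp (Algebra.TensorProduct.map (AlgHom.id k L)
        (Algebra.TensorProduct.includeLeft : L →ₐ[k] L ⊗[k] L)) = ψ := by
      rw [hψ]
      refine Algebra.TensorProduct.ext' fun a b => ?_
      simp [Ψ]
    have hmap : ∀ φ : L ⊗[k] L →ₐ[k] L ⊗[k] (L ⊗[k] L),
        mapRingHom Z Ψ.toRingHom (mapRingHom Z φ.toRingHom u) = mapRingHom Z (Ψ.comp φ).toRingHom u := fun φ =>
      MonoidAlgebra.coeffEquiv.injective (Finsupp.ext fun m => by simp)
    have hγd : mapRingHom Z (γ.comp ψ).toRingHom u = MonoidAlgebra.single (d ψ) 1 := by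
      have h1 : mapRingHom Z (γ.comp ψ).toRingHom u = mapRingHom Z γ.toRingHom (mapRingHom Z ψ.toRingHom u) :=
        MonoidAlgebra.coeffEquiv.injective (Finsupp.ext fun m => by simp)
      rw [h1, hd]
      simp
    have h' := congrArg (mapRingHom Z Ψ.toRingHom) h
    rw [map_mul, hmap, hmap, hmap, h₀, h₂, hγd, hd, hd, MonoidAlgebra.single_mul_single, one_mul] at h'
    exact (MonoidAlgebra.single_left_injective one_ne_zero h'.symm)
  have hmem : ∀ ψ, d ψ ∈ u.coeff.support := by
    intro ψ
    rw [Finsupp.mem_support_iff]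
    intro h0
    have := congrArg (fun x => x.coeff (d ψ)) (hd ψ)
    simp [h0] at this
  have hd1 : ∀ ψ, d ψ = 1 := by
    intro ψ
    by_contra hne
    have hchain : ∀ j : ℕ, ∃ ψ', d ψ' = d ψ ^ (2 ^ j) := by
      intro j
      induction j with
      | zero => exact ⟨ψ, (pow_one _).symm⟩
      | succ j ih =>
        obtain ⟨ψ', h'⟩ := ih
        obtain ⟨ψ'', h''⟩ := hdouble ψ'
        exact ⟨ψ'', by rw [h'', h', ← pow_add, pow_succ, mul_two]⟩
    have hinf : Function.Injective fun j : ℕ => d ψ ^ (2 ^ j) := by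
      intro a b hab
      have h3 : (2 ^ a : ℕ) * Multiplicative.toAdd (d ψ) = (2 ^ b : ℕ) * Multiplicative.toAdd (d ψ) := by
        simpa [toAdd_pow] using congrArg Multiplicative.toAdd hab
      have h4 : Multiplicative.toAdd (d ψ) ≠ 0 := fun h => hne (Multiplicative.toAdd.injective h)
      exact Nat.pow_right_injective le_rfl (by exact_mod_cast mul_right_cancel₀ h4 h3)
    exact (Set.infinite_range_of_injective hinf) (u.coeff.support.finite_toSet.subset (by
      rintro _ ⟨j, rfl⟩
      obtain ⟨ψ', h'⟩ := hchain j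
      show d ψ ^ 2 ^ j ∈ _
      rw [← h']
      exact hmem ψ'))
  refine hu.eq_one fun P hP hmemP => ?_
  haveI : Module.Finite k (L ⊗[k] L) := inferInstance
  haveI : Module.Finite k ((L ⊗[k] L) ⧸ P) := inferInstance
  haveI : IsDomain ((L ⊗[k] L) ⧸ P) := (Ideal.Quotient.isDomain_iff_prime P).2 hP
  have hF : IsField ((L ⊗[k] L) ⧸ P) := isField_of_isIntegral_of_isField' (Field.toIsField k)
  letI := hF.toField
  let ψ : L ⊗[k] L →ₐ[k] Ω := (IsAlgClosed.lift : (L ⊗[k] L) ⧸ P →ₐ[k] Ω).comp (Ideal.Quotient.mkₐ k P)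
  have := congrArg (fun x => x.coeff 1) (hd ψ)
  simp [hd1 ψ, ψ, Ideal.Quotient.eq_zero_iff_mem.2 hmemP] at this

end Groth.Agent.DualGm79
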