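import Groth.Agent.DualNorm79.Main
import Groth.Agent.DualGm79.Coef

/-!
# Endomorphisms of the multiplicative group are given by a universal element
-/

set_option autoImplicit false

universe u

open CategoryTheory Limits AlgebraicGeometry Opposite MonObj
open Groth.Agent.Adeq2Lib Groth.Agent.DualNorm79

namespace Groth.Agent.DualGm79

variable {S : Scheme.{u}}

/-- The unit attached to a section over a spectrum. -/
noncomputable def gv {R : Type u} [CommRing R] {b : Spec (CommRingCat.of R) ⟶ S}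
    (x : (GmS S).obj.obj (op (Over.mk b))) : R :=
  (Scheme.ΓSpecIso (CommRingCat.of R)).hom (fn x)

theorem gv_ext {R : Type u} [CommRing R] {b : Spec (CommRingCat.of R) ⟶ S}
    {x y : (GmS S).obj.obj (op (Over.mk b))} (h : gv x = gv y) : x = y :=
  fn_ext ((ConcreteCategory.bijective_of_isIso (Scheme.ΓSpecIso (CommRingCat.of R)).hom).1 h)

theorem gv_add {R : Type u} [CommRing R] {b : Spec (CommRingCat.of R) ⟶ S}
    (x y : (GmS S).obj.obj (op (Over.mk b))) : gv (x + y) = gv x * gv y := by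
  rw [gv, gv, gv, fn_add, map_mul]

theorem gv_zero {R : Type u} [CommRing R] {b : Spec (CommRingCat.of R) ⟶ S} :
    gv (0 : (GmS S).obj.obj (op (Over.mk b))) = 1 := by
  rw [gv, fn_zero, map_one]

theorem gv_res {R R' : Type u} [CommRing R] [CommRing R'] {b : Spec (CommRingCat.of R) ⟶ S}
    {b' : Spec (CommRingCat.of R') ⟶ S} (m : Over.mk b' ⟶ Over.mk b) (h : R →+* R')
    (hm : m.left = Spec.map (CommRingCat.ofHom h)) (x : (GmS S).obj.obj (op (Over.mk b))) :
    gv (AffVan.rA (GmS S) m x) = h (gv x) := by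
  rw [gv, gv, fn_res, hm]
  exact ConcreteCategory.congr_hom (Scheme.ΓSpecIso_naturality (CommRingCat.ofHom h)) (fn x)

theorem exists_gv {R : Type u} [CommRing R] (b : Spec (CommRingCat.of R) ⟶ S) (t : Rˣ) :
    ∃ x : (GmS S).obj.obj (op (Over.mk b)), gv x = t := by
  refine ⟨ULift.up (Additive.ofMul (GmPts.ptOfUnit (T := Over.mk b)
    (Units.map ((Scheme.ΓSpecIso (CommRingCat.of R)).inv.hom : R →* Γ(Spec (CommRingCat.of R), ⊤)) t))), ?_⟩
  show (Scheme.ΓSpecIso (CommRingCat.of R)).hom (Red.gmFn (GmPts.ptOfUnit (T := Over.mk b) _)) = t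
  rw [GmPts.gmFn_ptOfUnit]
  show (Scheme.ΓSpecIso (CommRingCat.of R)).hom ((Scheme.ΓSpecIso (CommRingCat.of R)).inv (t : R)) = t
  rw [Iso.inv_hom_id_apply]

/-- The ring map out of Laurent polynomials attached to a unit. -/
noncomputable def evalU {C R : Type u} [CommRing C] [CommRing R] (h : C →+* R) (t : Rˣ) :
    MonoidAlgebra C Z →+* R :=
  MonoidAlgebra.liftNCRingHom h ((Units.coeHom R).comp (zpowersHom Rˣ t)) fun _ _ => Commute.all _ _

theorem evalU_comp {C R : Type u} [CommRing C] [CommRing R] (h : C →+* R) (t : Rˣ) :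
    (evalU h t).comp (algebraMap C (MonoidAlgebra C Z)) = h := by
  ext c
  simp [evalU]

variable {C : Type u} [CommRing C] (a : Spec (CommRingCat.of C) ⟶ S)

/-- The coordinate. -/
noncomputable def zU (C : Type u) [CommRing C] : (MonoidAlgebra C Z)ˣ :=
  (MonoidAlgebra.of C Z).toHomUnits (Multiplicative.ofAdd 1)

theorem evalU_zU {R : Type u} [CommRing R] (h : C →+* R) (t : Rˣ) :
    evalU h t (zU C : MonoidAlgebra C Z) = t := by
  simp [evalU, zU]

/-- The universal test object. -/
noncomputable abbrev univObj : Over S :=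
  Over.mk (Spec.map (CommRingCat.ofHom (algebraMap C (MonoidAlgebra C Z))) ≫ a)

/-- The universal section. -/
noncomputable def univSec : (GmS S).obj.obj (op (univObj a)) := (exists_gv _ (zU C)).choose

theorem gv_univSec : gv (univSec a) = (zU C : MonoidAlgebra C Z) := (exists_gv _ (zU C)).choose_spec

/-- The universal element of an endomorphism of the multiplicative group. -/
noncomputable def ucoef (χ : (GmS S).over (Over.mk a) ⟶ (GmS S).over (Over.mk a)) : MonoidAlgebra C Z :=
  gv (val χ (Over.homMk (Spec.map (CommRingCat.ofHom (algebraMap C (MonoidAlgebra C Z)))) rfl : univObj a ⟶ Over.mk a)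
    (univSec a))

variable {a} (χ χ' : (GmS S).over (Over.mk a) ⟶ (GmS S).over (Over.mk a))

theorem gv_val {R : Type u} [CommRing R] {b : Spec (CommRingCat.of R) ⟶ S} (k : Over.mk b ⟶ Over.mk a) (h : C →+* R)
    (hk : k.left = Spec.map (CommRingCat.ofHom h)) (t : Rˣ) (x : (GmS S).obj.obj (op (Over.mk b))) (hx : gv x = t) :
    gv (val χ k x) = evalU h t (ucoef a χ) := by
  have hm₀ : Spec.map (CommRingCat.ofHom (evalU h t)) ≫ Spec.map (CommRingCat.ofHom (algebraMap C (MonoidAlgebra C Z))) =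
      Spec.map (CommRingCat.ofHom h) := by
    rw [← Spec.map_comp, ← CommRingCat.ofHom_comp, evalU_comp]
  let m : Over.mk b ⟶ univObj a := Over.homMk (Spec.map (CommRingCat.ofHom (evalU h t))) (by
    show _ ≫ _ ≫ a = b
    rw [← Category.assoc, hm₀, ← hk]
    exact Over.w k)
  have hmx : AffVan.rA (GmS S) m (univSec a) = x := gv_ext (by
    rw [gv_res m (evalU h t) rfl, gv_univSec, evalU_zU, hx])
  rw [ucoef, ← gv_res m (evalU h t) rfl]
  refine congrArg gv (((congrArg (val χ k) hmx).symm).trans (val_res χ m _ k ?_ _).symm)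
  exact Over.OverMorphism.ext (hm₀.trans hk.symm)

theorem ucoef_add : ucoef a (χ + χ') = ucoef a χ * ucoef a χ' := gv_add _ _

theorem ucoef_zero : ucoef a (0 : (GmS S).over (Over.mk a) ⟶ (GmS S).over (Over.mk a)) = 1 := gv_zero

theorem isGL_ucoef : IsGL (ucoef a χ) := by
  let P := MonoidAlgebra C (Z × Z)
  let b : Spec (CommRingCat.of P) ⟶ S := Spec.map (CommRingCat.ofHom (algebraMap C P)) ≫ a
  let k : Over.mk b ⟶ Over.mk a := Over.homMk (Spec.map (CommRingCat.ofHom (algebraMap C P))) rfl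
  let t : Z × Z → Pˣ := fun g => (MonoidAlgebra.of C (Z × Z)).toHomUnits g
  have key : ∀ g : Z × Z, ∀ φ : Z →* Z × Z, φ (Multiplicative.ofAdd 1) = g →
      evalU (algebraMap C P) (t g) = MonoidAlgebra.mapDomainRingHom C φ := by
    intro g φ hφ
    subst hφ
    refine MonoidAlgebra.ringHom_ext (fun c => ?_) fun m => ?_
    · simp [evalU, P]
    · have : ((Units.coeHom P).comp (zpowersHom Pˣ (t (φ (Multiplicative.ofAdd 1))))) =
          (MonoidAlgebra.of C (Z × Z)).comp φ := MonoidHom.ext_mint (by simp [t]; rfl)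
      simp [evalU, this]
      simp [P]
  refine isGL_of _ ?_ ?_
  · obtain ⟨x₁, hx₁⟩ := exists_gv b (t (Multiplicative.ofAdd 1, 1))
    obtain ⟨x₂, hx₂⟩ := exists_gv b (t (1, Multiplicative.ofAdd 1))
    have hx : gv (x₁ + x₂) = (t (Multiplicative.ofAdd 1, Multiplicative.ofAdd 1) : P) := by
      rw [gv_add, hx₁, hx₂]
      simp only [t, MonoidHom.coe_toHomUnits, ← map_mul, Prod.mk_mul_mk]
      exact congrArg _ (Prod.ext (mul_one _) (one_mul _))
    have h := gv_add (val χ k x₁) (val χ k x₂)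
    rw [← map_add, gv_val χ k _ rfl _ _ hx, gv_val χ k _ rfl _ _ hx₁, gv_val χ k _ rfl _ _ hx₂,
      key (Multiplicative.ofAdd 1, Multiplicative.ofAdd 1) (MonoidHom.prod (MonoidHom.id Z) (MonoidHom.id Z)) rfl,
      key (Multiplicative.ofAdd 1, 1) (MonoidHom.inl Z Z) rfl,
      key (1, Multiplicative.ofAdd 1) (MonoidHom.inr Z Z) rfl] at h
    exact h
  · have h := gv_val χ (𝟙 (Over.mk a)) (RingHom.id C) (by
      show 𝟙 (Spec (CommRingCat.of C)) = _
      rw [CommRingCat.ofHom_id, Spec.map_id]) 1 0 (by rw [gv_zero]; rfl)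
    rw [map_zero, gv_zero] at h
    rw [h]
    exact DFunLike.congr_fun (MonoidAlgebra.ringHom_ext (fun c => by simp [evalU]) fun m => by simp [evalU] :
      (MonoidAlgebra.lift C C Z (1 : Z →* C)).toRingHom = evalU (RingHom.id C) (1 : Cˣ)) _

theorem ucoef_res {C' : Type u} [CommRing C'] {a' : Spec (CommRingCat.of C') ⟶ S} (m : Over.mk a' ⟶ Over.mk a)
    (h : C →+* C') (hm : m.left = Spec.map (CommRingCat.ofHom h)) :
    ucoef a' (AffVan.rA (dualS (GmS S)) m χ) = MonoidAlgebra.mapRingHom Z h (ucoef a χ) := by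
  let π : univObj a' ⟶ Over.mk a' :=
    Over.homMk (Spec.map (CommRingCat.ofHom (algebraMap C' (MonoidAlgebra C' Z)))) rfl
  refine (gv_val χ (π ≫ m) ((algebraMap C' (MonoidAlgebra C' Z)).comp h) ?_ (zU C') _ (gv_univSec a')).trans ?_
  · refine (congrArg (Spec.map (CommRingCat.ofHom (algebraMap C' (MonoidAlgebra C' Z))) ≫ ·) hm).trans ?_
    exact (Spec.map_comp _ _).symm
  · refine DFunLike.congr_fun (MonoidAlgebra.ringHom_ext (fun c => ?_) fun g => ?_) _
    · simp [evalU]
    · have : ((Units.coeHom (MonoidAlgebra C' Z)).comp (zpowersHom (MonoidAlgebra C' Z)ˣ (zU C'))) =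
          MonoidAlgebra.of C' Z := MonoidHom.ext_mint (by simp [zU])
      simp [evalU, this]

theorem eq_zero_of_ucoef (h : ucoef a χ = 1) : χ = 0 := by
  refine val_ext fun W k x => ?_
  rw [val_zero]
  let V : W.left.affineCover.I₀ → Over S := fun j => Over.mk (W.left.affineCover.f j ≫ W.hom)
  let v : ∀ j, V j ⟶ W := fun j => Over.homMk (W.left.affineCover.f j)
  refine AffVan.eq_of_cover (GmS S) V v
    (Precoverage.toGrothendieck_mono Scheme.zariskiPrecoverage_le_fppfPrecoverage _
      W.left.affineCover.mem_grothendieckTopology) _ _ fun j => ?_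
  rw [map_zero, val_res χ (v j) k _ rfl]
  let R := Γ(W.left.affineCover.X j, ⊤)
  let b : Spec (CommRingCat.of R) ⟶ S := (W.left.affineCover.X j).isoSpec.inv ≫ W.left.affineCover.f j ≫ W.hom
  let w : Over.mk b ⟶ V j := Over.homMk (W.left.affineCover.X j).isoSpec.inv rfl
  haveI : IsIso w.left := inferInstanceAs (IsIso (W.left.affineCover.X j).isoSpec.inv)
  suffices AffVan.rA (GmS S) w (val χ (v j ≫ k) (AffVan.rA (GmS S) (v j) x)) = 0 by
    refine fn_ext ?_
    have h1 := congrArg fn this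
    rw [fn_res, fn_zero] at h1
    rw [fn_zero]
    haveI : IsIso w.left.appTop := Functor.map_isIso Scheme.Γ w.left.op
    exact (ConcreteCategory.bijective_of_isIso w.left.appTop).1 (h1.trans (map_one _).symm)
  rw [val_res χ w _ _ rfl]
  obtain ⟨hR, hh⟩ : ∃ hR : C →+* R, (w ≫ v j ≫ k).left = Spec.map (CommRingCat.ofHom hR) :=
    ⟨(Spec.preimage (w ≫ v j ≫ k).left).hom, (Spec.map_preimage (R := CommRingCat.of C) (S := CommRingCat.of R) _).symm⟩
  set y := AffVan.rA (GmS S) w (AffVan.rA (GmS S) (v j) x)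
  have hy : IsUnit (gv y) := by
    refine ((GmPts.unitOfPt (Additive.toMul y.down)).isUnit).map (Scheme.ΓSpecIso (CommRingCat.of R)).hom.hom
  refine gv_ext ?_
  rw [gv_val χ _ hR hh hy.unit y rfl, h, map_one, gv_zero]

end Groth.Agent.DualGm79
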