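import Groth.Agent.GmField79.HOne
import Groth.Agent.DualGm79.Univ

/-!
# The first fppf cohomology group of a field with values in the dual of the multiplicative group
-/

set_option autoImplicit false

universe u

open CategoryTheory Limits AlgebraicGeometry Opposite Abelian TensorProduct
open Groth.Agent.Adeq2Lib Groth.Agent.DualNorm79 Groth.Agent.GmField79

namespace Groth.Agent.DualGm79

open AffVan CechSingle CechAffine

/-- The Cech cocycles of the dual of the multiplicative group for a finite extension vanish. -/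
theorem ex_dualGm (k : Type u) [Field k] (L : Type u) [Field L] [Algebra k L] [Module.Finite k L] {S : Scheme.{u}}
    (a : Spec (CommRingCat.of k) ⟶ S) :
    Ex (X₀ (R := CommRingCat.of k) L) (pr (dualS (GmS S)) a) 0 := by
  refine ex_of_cocycle k L _ fun x' hD => ⟨0, ?_⟩
  rw [map_zero, map_zero, add_zero]
  let R := CommRingCat.of k
  let a₂ : Spec (CommRingCat.of (L ⊗[k] L)) ⟶ S := (sp R (Adeq.algOf R (L ⊗[k] L))).hom ≫ a
  let a₃ : Spec (CommRingCat.of (L ⊗[k] (L ⊗[k] L))) ⟶ S := (sp R (Adeq.algOf R (L ⊗[k] (L ⊗[k] L)))).hom ≫ a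
  let χ : (GmS S).over (Over.mk a₂) ⟶ (GmS S).over (Over.mk a₂) := x'
  have hm : ∀ φ : L ⊗[k] L →ₐ[k] L ⊗[k] (L ⊗[k] L),
      ucoef a₃ (AffVan.rA (dualS (GmS S)) ((Over.map a).map (spMap R (CommAlgCat.ofHom φ :
        Adeq.algOf R (L ⊗[k] L) ⟶ Adeq.algOf R (L ⊗[k] (L ⊗[k] L)))) : Over.mk a₃ ⟶ Over.mk a₂) χ) =
        MonoidAlgebra.mapRingHom Z φ.toRingHom (ucoef a₂ χ) :=
    fun φ => ucoef_res χ _ φ.toRingHom rfl
  have h := congrArg (fun z => ucoef a₃ (z : (GmS S).over (Over.mk a₃) ⟶ (GmS S).over (Over.mk a₃))) hD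
  have h1 := (ucoef_add (a := a₃) _ _).symm.trans h

  refine (eq_zero_of_ucoef χ (eq_one_of_cocycle (isGL_ucoef χ) ?_)).symm
  rw [← hm, ← hm, ← hm]
  exact h1

/-- The first fppf cohomology group of a field with values in the dual of the multiplicative group vanishes. -/
theorem subsingleton_H_one_dualGm (k : Type u) [Field k] :
    Subsingleton (BigSite.H Scheme.fppfPrecoverage (Spec (CommRingCat.of k))
      (dualS (GmS (Spec (CommRingCat.of k)))) 1) :=
  subsingleton_H_one_of_finite k _ fun L _ _ _ => ex_dualGm k L _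

end Groth.Agent.DualGm79
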